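import Mathlib

/-!
# S3912: a solvable group in which all cyclic subgroups of order 4 are conjugate has no generalized
quaternion Sylow 2-subgroup of order at least 16
-/

set_option autoImplicit false
set_option linter.style.haveILetI false

namespace Cfsg.Agent.Lib.S3912

open QuaternionGroup in
theorem quat_sq_order_four (m : ℕ) [NeZero m] (hm : 4 ∣ m) :
    ∃ w : QuaternionGroup m, orderOf (w ^ 2) = 4 := by
  obtain ⟨k, rfl⟩ := hm
  have hk : k ≠ 0 := by
    rintro rfl
    exact (NeZero.ne (4 * 0)) (by simp)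
  refine ⟨(a 1 : QuaternionGroup (4 * k)) ^ k, ?_⟩
  rw [← pow_mul]
  rw [orderOf_pow_of_dvd (by positivity) (by rw [orderOf_a_one]; exact ⟨4, by ring⟩), orderOf_a_one]
  have : 2 * (4 * k) = 4 * (k * 2) := by ring
  rw [this, Nat.mul_div_cancel _ (by positivity)]

open QuaternionGroup in
theorem quat_gen_order_four (m : ℕ) [NeZero m] (x : QuaternionGroup m) :
    ∃ y z : QuaternionGroup m, orderOf y = 4 ∧ orderOf z = 4 ∧ (x = y ∨ x = y * z) := by
  cases x with
  | a i =>
    refine ⟨xa 0, xa (i - (m : ZMod (2 * m))), orderOf_xa 0, orderOf_xa _, Or.inr ?_⟩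
    rw [xa_mul_xa]
    congr 1
    ring
  | xa i =>
    exact ⟨xa i, xa 0, orderOf_xa i, orderOf_xa 0, Or.inl rfl⟩

variable {G : Type*} [Group G] [Finite G]

/-- If a normal subgroup `L` contains a Sylow 2-subgroup `P` and `P` lies in the normal closure of
the squares of `L`, then `P ≤ [L, L]`. -/
theorem sylow_le_commutator_of_le_sq (L : Subgroup G) [L.Normal] (P : Sylow 2 G)
    (hPL : (P : Subgroup G) ≤ L)
    (hPN : (P : Subgroup G) ≤ Subgroup.normalClosure {y : G | ∃ x ∈ L, y = x ^ 2}) :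
    (P : Subgroup G) ≤ ⁅L, L⁆ := by
  set S : Set G := {y : G | ∃ x ∈ L, y = x ^ 2} with hS
  set N : Subgroup G := Subgroup.normalClosure S with hN
  have hNL : N ≤ L := by
    apply Subgroup.normalClosure_le_normal
    rintro y ⟨x, hx, rfl⟩
    exact L.pow_mem hx 2
  have hsq : ∀ x ∈ L, x ^ 2 ∈ N := fun x hx => Subgroup.subset_normalClosure ⟨x, hx, rfl⟩
  -- step 2: L ≤ N
  have hLN : L ≤ N := by
    rw [← Subgroup.relIndex_eq_one]
    have hodd : ¬ 2 ∣ N.relIndex L := by
      intro h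
      have h1 : N.relIndex L ∣ N.index := Subgroup.relIndex_dvd_index_of_le hNL
      have h2 : N.index ∣ (P : Subgroup G).index := Subgroup.index_dvd_of_le hPN
      exact P.not_dvd_index (h.trans (h1.trans h2))
    have hpg : IsPGroup 2 (↥L ⧸ N.subgroupOf L) := by
      intro q
      refine ⟨1, ?_⟩
      obtain ⟨x, rfl⟩ := QuotientGroup.mk_surjective q
      rw [pow_one, ← QuotientGroup.mk_pow, QuotientGroup.eq_one_iff, Subgroup.mem_subgroupOf]
      exact hsq x x.2
    obtain ⟨k, hk⟩ := IsPGroup.iff_card.1 hpg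
    have hidx : N.relIndex L = 2 ^ k := by
      rw [← hk]; rfl
    rcases Nat.eq_zero_or_pos k with rfl | hkpos
    · simpa using hidx
    · exfalso
      apply hodd
      rw [hidx]
      exact dvd_pow_self 2 hkpos.ne'
  -- step 3
  let ψ : ↥L →* Abelianization ↥L := Abelianization.of
  have h3 : ∀ (x : G) (hxN : x ∈ N), ∃ t : Abelianization ↥L, ψ ⟨x, hNL hxN⟩ = t ^ 2 := by
    intro x hxN
    induction hxN using Subgroup.closure_induction with
    | mem y hy =>
      rw [Group.mem_conjugatesOfSet_iff] at hy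
      obtain ⟨s, ⟨x₀, hx₀, rfl⟩, hconj⟩ := hy
      obtain ⟨g, rfl⟩ := isConj_iff.1 hconj
      have hmem : g * x₀ * g⁻¹ ∈ L := (inferInstance : L.Normal).conj_mem x₀ hx₀ g
      refine ⟨ψ ⟨g * x₀ * g⁻¹, hmem⟩, ?_⟩
      rw [← map_pow]
      congr 1
      apply Subtype.ext
      simp only [Subgroup.coe_pow]
      rw [conj_pow]
    | one => exact ⟨1, by simp [ψ]; rfl⟩
    | mul a b ha hb iha ihb =>
      obtain ⟨t₁, ht₁⟩ := iha
      obtain ⟨t₂, ht₂⟩ := ihb
      refine ⟨t₁ * t₂, ?_⟩
      rw [mul_pow, ← ht₁, ← ht₂, ← map_mul]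
      rfl
    | inv a ha iha =>
      obtain ⟨t₁, ht₁⟩ := iha
      refine ⟨t₁⁻¹, ?_⟩
      rw [inv_pow, ← ht₁, ← map_inv]
      rfl
  -- step 4: squaring on the abelianization is surjective hence injective
  have hsurj : Function.Surjective (fun t : Abelianization ↥L => t ^ 2) := by
    intro t
    obtain ⟨x, rfl⟩ := QuotientGroup.mk_surjective t
    obtain ⟨t', ht'⟩ := h3 (x : G) (hLN x.2)
    exact ⟨t', ht'.symm⟩
  have hinj : Function.Injective (fun t : Abelianization ↥L => t ^ 2) :=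
    Finite.injective_iff_surjective.2 hsurj
  have h4 : ∀ (k : ℕ) (t : Abelianization ↥L), t ^ 2 ^ k = 1 → t = 1 := by
    intro k
    induction k with
    | zero => intro t ht; simpa using ht
    | succ k ih =>
      intro t ht
      apply ih
      apply hinj
      show (t ^ 2 ^ k) ^ 2 = (1 : Abelianization ↥L) ^ 2
      rw [← pow_mul, ← pow_succ, ht, one_pow]
  intro x hx
  obtain ⟨k, hk⟩ := P.isPGroup' ⟨x, hx⟩
  have hxk : x ^ 2 ^ k = 1 := by
    have := congrArg Subtype.val hk
    simpa using this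
  have h5 : ψ ⟨x, hPL hx⟩ = 1 := by
    apply h4 k
    rw [← map_pow]
    have : (⟨x, hPL hx⟩ : ↥L) ^ 2 ^ k = 1 := by
      apply Subtype.ext
      simpa using hxk
    rw [this, map_one]
  have h6 : (⟨x, hPL hx⟩ : ↥L) ∈ _root_.commutator ↥L := by
    rw [← Abelianization.ker_of]
    exact h5
  rw [← Subgroup.map_subtype_commutator]
  exact ⟨⟨x, hPL hx⟩, h6, rfl⟩

theorem quat_sylow_card (hsol : Group.IsSolvable G)
    (h4 : ∀ C C' : Subgroup G, IsCyclic ↥C → IsCyclic ↥C' → Nat.card ↥C = 4 → Nat.card ↥C' = 4 →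
      ∃ g : G, C' = C.map (MulAut.conj g).toMonoidHom)
    (P : Sylow 2 G) (n : ℕ) (e : ↥(P : Subgroup G) ≃* QuaternionGroup (2 ^ n)) : n ≤ 1 := by
  by_contra hn
  have hn2 : 2 ≤ n := by omega
  have hm4 : 4 ∣ 2 ^ n := by
    obtain ⟨k, rfl⟩ := Nat.exists_eq_add_of_le hn2
    exact ⟨2 ^ k, by rw [pow_add]; norm_num⟩
  haveI : NeZero (2 ^ n) := ⟨by positivity⟩
  -- P is nontrivial
  have hPne : (P : Subgroup G) ≠ ⊥ := by
    intro h
    obtain ⟨w, hw⟩ := quat_sq_order_four (2 ^ n) hm4
    have hsub : Subsingleton ↥(P : Subgroup G) := by rw [h]; infer_instance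
    have : e.symm (w ^ 2) = 1 := Subsingleton.elim _ _
    have h1 : w ^ 2 = 1 := by
      have := congrArg e this
      simpa using this
    rw [h1, orderOf_one] at hw
    omega
  -- choose the last term of the derived series containing P
  obtain ⟨n₀, hn₀⟩ := hsol.solvable
  have hex : ∃ i, ¬ (P : Subgroup G) ≤ derivedSeries G i := ⟨n₀, by
    rw [hn₀, le_bot_iff]; exact hPne⟩
  classical
  set i₀ := Nat.find hex with hi₀
  have hi₀spec : ¬ (P : Subgroup G) ≤ derivedSeries G i₀ := Nat.find_spec hex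
  have hi₀pos : i₀ ≠ 0 := by
    intro h
    rw [h, derivedSeries_zero] at hi₀spec
    exact hi₀spec le_top
  obtain ⟨j, hj⟩ := Nat.exists_eq_succ_of_ne_zero hi₀pos
  have hjP : (P : Subgroup G) ≤ derivedSeries G j := by
    by_contra h
    have := Nat.find_min' hex h
    omega
  set L := derivedSeries G j with hL
  haveI : L.Normal := derivedSeries_normal G j
  have hLL : ⁅L, L⁆ = derivedSeries G i₀ := by rw [hj, derivedSeries_succ]
  set N : Subgroup G := Subgroup.normalClosure {y : G | ∃ x ∈ L, y = x ^ 2} with hN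
  have hNn : N.Normal := Subgroup.normalClosure_normal
  -- the special element
  obtain ⟨w, hw⟩ := quat_sq_order_four (2 ^ n) hm4
  set c : G := ((e.symm w : ↥(P : Subgroup G)) : G) ^ 2 with hc
  have hcN : c ∈ N := Subgroup.subset_normalClosure ⟨_, hjP (e.symm w).2, rfl⟩
  have hco : orderOf c = 4 := by
    have h1 : c = ((e.symm (w ^ 2) : ↥(P : Subgroup G)) : G) := by
      rw [hc, map_pow]; rfl
    rw [h1, Subgroup.orderOf_coe, MulEquiv.orderOf_eq, hw]
  -- every element of order 4 of G lies in N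
  have h4N : ∀ y : G, orderOf y = 4 → y ∈ N := by
    intro y hy
    obtain ⟨g, hg⟩ := h4 (Subgroup.zpowers c) (Subgroup.zpowers y) inferInstance inferInstance
      (by rw [Nat.card_zpowers, hco]) (by rw [Nat.card_zpowers, hy])
    have hymem : y ∈ Subgroup.zpowers y := Subgroup.mem_zpowers y
    rw [hg] at hymem
    obtain ⟨z, hz, rfl⟩ := hymem
    have hzN : z ∈ N := ((Subgroup.zpowers_le).2 hcN) hz
    exact hNn.conj_mem z hzN g
  -- hence P ≤ N
  have hPN : (P : Subgroup G) ≤ N := by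
    intro x hx
    obtain ⟨y, z, hy, hz, hxyz⟩ := quat_gen_order_four (2 ^ n) (e ⟨x, hx⟩)
    have hy' : ((e.symm y : ↥(P : Subgroup G)) : G) ∈ N := by
      apply h4N
      rw [Subgroup.orderOf_coe, MulEquiv.orderOf_eq, hy]
    have hz' : ((e.symm z : ↥(P : Subgroup G)) : G) ∈ N := by
      apply h4N
      rw [Subgroup.orderOf_coe, MulEquiv.orderOf_eq, hz]
    rcases hxyz with h | h
    · have : (⟨x, hx⟩ : ↥(P : Subgroup G)) = e.symm y := by rw [← h]; simp
      have h2 : x = ((e.symm y : ↥(P : Subgroup G)) : G) := congrArg Subtype.val this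
      rw [h2]; exact hy'
    · have : (⟨x, hx⟩ : ↥(P : Subgroup G)) = e.symm y * e.symm z := by
        rw [← map_mul, ← h]; simp
      have h2 : x = ((e.symm y : ↥(P : Subgroup G)) : G) * ((e.symm z : ↥(P : Subgroup G)) : G) :=
        congrArg Subtype.val this
      rw [h2]; exact N.mul_mem hy' hz'
  have := sylow_le_commutator_of_le_sq L P hjP hPN
  rw [hLL] at this
  exact hi₀spec this

end Cfsg.Agent.Lib.S3912
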