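import Mathlib

/-!
# S3912: groups all of whose Sylow subgroups are normal, with abelian odd Sylow subgroups

`eq_top_of_sylow_le`: a subgroup containing a Sylow `p`-subgroup for every prime `p` is the whole
group.  `odd_central`: if all Sylow subgroups of `K` are normal and those for odd primes are
abelian, then every element of odd order is central.
-/

set_option autoImplicit false
set_option linter.style.haveILetI false

namespace Cfsg.Agent.Lib.S3912

variable {K : Type*} [Group K] [Finite K]

/-- a subgroup containing a Sylow `p`-subgroup for every prime `p` is the whole group -/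
theorem eq_top_of_sylow_le (H : Subgroup K)
    (h : ∀ (p : ℕ) [Fact p.Prime], ∃ P : Sylow p K, (P : Subgroup K) ≤ H) : H = ⊤ := by
  apply Subgroup.eq_top_of_card_eq
  apply Nat.dvd_antisymm (Subgroup.card_subgroup_dvd_card H)
  rw [← Nat.factorization_le_iff_dvd Nat.card_pos.ne' Nat.card_pos.ne', Finsupp.le_def]
  intro p
  by_cases hp : p.Prime
  · haveI : Fact p.Prime := ⟨hp⟩
    obtain ⟨P, hP⟩ := h p
    have h1 := Subgroup.card_dvd_of_le hP
    rw [P.card_eq_multiplicity] at h1
    exact (hp.pow_dvd_iff_le_factorization Nat.card_pos.ne').1 h1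
  · rw [Nat.factorization_eq_zero_of_not_prime _ hp]
    exact Nat.zero_le _

/-- all Sylow subgroups normal, odd ones abelian: the odd Sylow subgroups are central -/
theorem sylow_le_center
    (hn : ∀ (p : ℕ) [Fact p.Prime] (P : Sylow p K), (P : Subgroup K).Normal)
    (p : ℕ) [Fact p.Prime] (P : Sylow p K)
    (hab : ∀ x ∈ (P : Subgroup K), ∀ y ∈ (P : Subgroup K), x * y = y * x) :
    (P : Subgroup K) ≤ Subgroup.center K := by
  intro x hx
  have htop : Subgroup.centralizer ({x} : Set K) = ⊤ := by
    apply eq_top_of_sylow_le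
    intro q _
    by_cases hq : q = p
    · subst hq
      refine ⟨P, fun y hy => ?_⟩
      rw [Subgroup.mem_centralizer_singleton_iff]
      exact hab y hy x hx
    · obtain Q : Sylow q K := default
      refine ⟨Q, fun y hy => ?_⟩
      rw [Subgroup.mem_centralizer_singleton_iff]
      have hdis : Disjoint (Q : Subgroup K) (P : Subgroup K) :=
        IsPGroup.disjoint_of_ne q p hq _ _ Q.isPGroup' P.isPGroup'
      exact (Subgroup.commute_of_normal_of_disjoint _ _ (hn q Q) (hn p P) hdis y x hy hx).eq
  rw [Subgroup.mem_center_iff]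
  intro g
  have hg : g ∈ Subgroup.centralizer ({x} : Set K) := by rw [htop]; trivial
  rw [Subgroup.mem_centralizer_singleton_iff] at hg
  exact hg

/-- all Sylow subgroups normal, odd ones abelian: elements of odd order are central -/
theorem odd_central
    (hn : ∀ (p : ℕ) [Fact p.Prime] (P : Sylow p K), (P : Subgroup K).Normal)
    (hab : ∀ (p : ℕ) [Fact p.Prime], p ≠ 2 → ∀ (P : Sylow p K),
      ∀ x ∈ (P : Subgroup K), ∀ y ∈ (P : Subgroup K), x * y = y * x)
    (d : K) (hd : Odd (orderOf d)) : d ∈ Subgroup.center K := by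
  haveI h2 : Fact (Nat.Prime 2) := ⟨Nat.prime_two⟩
  obtain S : Sylow 2 K := default
  have hsup : (S : Subgroup K) ⊔ Subgroup.center K = ⊤ := by
    apply eq_top_of_sylow_le
    intro q _
    by_cases hq : q = 2
    · subst hq
      exact ⟨S, le_sup_left⟩
    · obtain Q : Sylow q K := default
      exact ⟨Q, (sylow_le_center hn q Q (hab q hq Q)).trans le_sup_right⟩
  have hidx : (Subgroup.center K).index ∣ Nat.card (S : Subgroup K) := by
    rw [← Subgroup.relIndex_top_right, ← hsup, Subgroup.relIndex_sup_right]
    exact Subgroup.relIndex_dvd_card _ _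
  obtain ⟨k, hk⟩ := IsPGroup.iff_card.1 S.isPGroup'
  rw [hk] at hidx
  obtain ⟨j, -, hj⟩ := (Nat.dvd_prime_pow Nat.prime_two).1 hidx
  have hcop : Nat.Coprime (Subgroup.center K).index (orderOf d) := by
    rw [hj]
    exact Nat.Coprime.pow_left j (Nat.coprime_two_left.2 hd)
  obtain ⟨m, hm⟩ := exists_pow_eq_self_of_coprime hcop
  rw [← hm]
  exact Subgroup.pow_mem _ (Subgroup.pow_index_mem _ d) m

end Cfsg.Agent.Lib.S3912
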