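import Mathlib
import Cfsg.Agent.Lib.S3912.Nil

/-!
# S3912: central complements, conjugacy of Sylow subgroups inside a subgroup, and the final
conjugation of two subgroups `T ⊔ D`, `U ⊔ E`
-/

set_option autoImplicit false
set_option linter.style.haveILetI false
set_option linter.unusedSectionVars false

namespace Cfsg.Agent.Lib.S3912

section K
variable {K : Type*} [Group K] [Finite K]

/-- all Sylow subgroups normal, odd ones abelian: a Sylow 2-subgroup has a central complement -/
theorem exists_central_complement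
    (hn : ∀ (p : ℕ) [Fact p.Prime] (P : Sylow p K), (P : Subgroup K).Normal)
    (hab : ∀ (p : ℕ) [Fact p.Prime], p ≠ 2 → ∀ (P : Sylow p K),
      ∀ x ∈ (P : Subgroup K), ∀ y ∈ (P : Subgroup K), x * y = y * x)
    (T : Sylow 2 K) :
    ∃ D : Subgroup K, (T : Subgroup K) ⊔ D = ⊤ ∧ D ≤ Subgroup.center K ∧
      Nat.card ↥(T : Subgroup K) * Nat.card ↥D = Nat.card K := by
  haveI h2 : Fact (Nat.Prime 2) := ⟨Nat.prime_two⟩
  haveI := hn 2 T
  obtain ⟨D, hD⟩ := Subgroup.exists_right_complement'_of_coprime T.card_coprime_index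
  refine ⟨D, hD.sup_eq_top, ?_, hD.card_mul⟩
  intro d hd
  apply odd_central hn hab
  have h1 : orderOf d ∣ Nat.card ↥D := by
    have : orderOf (⟨d, hd⟩ : ↥D) ∣ Nat.card ↥D := orderOf_dvd_natCard _
    rwa [← Subgroup.orderOf_coe] at this
  have h3 : ¬ 2 ∣ Nat.card ↥D := by
    rw [← hD.symm.index_eq_card]
    exact T.not_dvd_index
  exact Nat.not_even_iff_odd.1 (fun h => h3 ((even_iff_two_dvd.1 h).trans h1))

end K

section G
variable {G : Type*} [Group G] [Finite G]

/-- two subgroups of a subgroup `L` of `G` whose order is the full `p`-part of `|G|` are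
conjugate by an element of `L` -/
theorem conj_of_card_eq_sylow (L : Subgroup G) (p : ℕ) [Fact p.Prime] (X Y : Subgroup G)
    (hX : X ≤ L) (hY : Y ≤ L)
    (hXc : Nat.card ↥X = p ^ (Nat.card G).factorization p)
    (hYc : Nat.card ↥Y = p ^ (Nat.card G).factorization p) :
    ∃ c ∈ L, Y = X.map (MulAut.conj c).toMonoidHom := by
  have hpp : p.Prime := Fact.out
  have key : ∀ Z : Subgroup G, Z ≤ L → Nat.card ↥Z = p ^ (Nat.card G).factorization p →
      ∃ P : Sylow p ↥L, (P : Subgroup ↥L) = Z.subgroupOf L := by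
    intro Z hZ hZc
    have hcard : Nat.card ↥(Z.subgroupOf L) = p ^ (Nat.card G).factorization p := by
      rw [← hZc]; exact Nat.card_congr (Subgroup.subgroupOfEquivOfLe hZ).toEquiv
    obtain ⟨P, hP⟩ := IsPGroup.exists_le_sylow (IsPGroup.of_card hcard)
    refine ⟨P, (Subgroup.eq_of_le_of_card_ge hP ?_).symm⟩
    rw [hcard, P.card_eq_multiplicity]
    apply Nat.pow_le_pow_right hpp.pos
    exact (Nat.factorization_le_iff_dvd Nat.card_pos.ne' Nat.card_pos.ne').2
      (Subgroup.card_subgroup_dvd_card L) p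
  obtain ⟨P₁, hP₁⟩ := key X hX hXc
  obtain ⟨P₂, hP₂⟩ := key Y hY hYc
  obtain ⟨c, hc⟩ := MulAction.exists_smul_eq ↥L P₁ P₂
  refine ⟨(c : G), c.2, ?_⟩
  symm
  apply Subgroup.eq_of_le_of_card_ge
  · rintro _ ⟨x, hx, rfl⟩
    have hx1 : (⟨x, hX hx⟩ : ↥L) ∈ (P₁ : Subgroup ↥L) := by
      rw [hP₁, Subgroup.mem_subgroupOf]; exact hx
    have hx2 : c * ⟨x, hX hx⟩ * c⁻¹ ∈ (P₂ : Subgroup ↥L) := by
      rw [← hc, Sylow.coe_subgroup_smul, Subgroup.mem_pointwise_smul_iff_inv_smul_mem]
      have : (MulAut.conj c)⁻¹ • (c * ⟨x, hX hx⟩ * c⁻¹) = (⟨x, hX hx⟩ : ↥L) := by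
        simp [MulAut.smul_def, mul_assoc]
      rw [this]; exact hx1
    rw [hP₂, Subgroup.mem_subgroupOf] at hx2
    simpa using hx2
  · rw [Subgroup.card_map_of_injective (MulAut.conj (c : G)).injective, hXc, hYc]

theorem map_conj_mul (X : Subgroup G) (c g : G) :
    (X.map (MulAut.conj g).toMonoidHom).map (MulAut.conj c).toMonoidHom =
      X.map (MulAut.conj (c * g)).toMonoidHom := by
  rw [Subgroup.map_map]
  congr 1
  ext x
  simp [mul_assoc]

theorem map_conj_eq_self (E : Subgroup G) (c : G)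
    (hc : c ∈ Subgroup.centralizer (E : Set G)) :
    E.map (MulAut.conj c).toMonoidHom = E := by
  ext x
  constructor
  · rintro ⟨e, he, rfl⟩
    have := (Subgroup.mem_centralizer_iff.1 hc) e he
    simp only [MulEquiv.coe_toMonoidHom, MulAut.conj_apply]
    rw [← this, mul_inv_cancel_right]; exact he
  · intro hx
    refine ⟨x, hx, ?_⟩
    have := (Subgroup.mem_centralizer_iff.1 hc) x hx
    simp only [MulEquiv.coe_toMonoidHom, MulAut.conj_apply]
    rw [← this, mul_inv_cancel_right]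

/-- `A = T ⊔ D`, `B = U ⊔ E` with `D`, `E` abelian of the same order, centralized by `T`, `U`
respectively, and `T`, `U` of order the full `p`-part of `|G|`: then `A`, `B` are conjugate -/
theorem conj_of_decomp
    (hB : ∀ A B : Subgroup G, IsMulCommutative ↥A → IsMulCommutative ↥B →
      Nat.card ↥A = Nat.card ↥B → ∃ g : G, B = A.map (MulAut.conj g).toMonoidHom)
    (p : ℕ) [Fact p.Prime] (A B T U D E : Subgroup G)
    (hA : A = T ⊔ D) (hB' : B = U ⊔ E)
    (hD : IsMulCommutative ↥D) (hE : IsMulCommutative ↥E) (hDE : Nat.card ↥D = Nat.card ↥E)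
    (hTD : T ≤ Subgroup.centralizer (D : Set G)) (hUE : U ≤ Subgroup.centralizer (E : Set G))
    (hT : Nat.card ↥T = p ^ (Nat.card G).factorization p)
    (hU : Nat.card ↥U = p ^ (Nat.card G).factorization p) :
    ∃ g : G, B = A.map (MulAut.conj g).toMonoidHom := by
  obtain ⟨g, hg⟩ := hB D E hD hE hDE
  have hT'E : T.map (MulAut.conj g).toMonoidHom ≤ Subgroup.centralizer (E : Set G) := by
    rintro _ ⟨t, ht, rfl⟩
    rw [Subgroup.mem_centralizer_iff]
    intro e he
    have he' : e ∈ D.map (MulAut.conj g).toMonoidHom := by rw [← hg]; exact he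
    obtain ⟨d, hd, rfl⟩ := he'
    have := (Subgroup.mem_centralizer_iff.1 (hTD ht)) d hd
    simp only [MulEquiv.coe_toMonoidHom, MulAut.conj_apply]
    calc g * d * g⁻¹ * (g * t * g⁻¹) = g * (d * t) * g⁻¹ := by group
      _ = g * (t * d) * g⁻¹ := by rw [this]
      _ = g * t * g⁻¹ * (g * d * g⁻¹) := by group
  have hT'c : Nat.card ↥(T.map (MulAut.conj g).toMonoidHom) =
      p ^ (Nat.card G).factorization p := by
    rw [Subgroup.card_map_of_injective (MulAut.conj g).injective, hT]
  obtain ⟨c, hcL, hc⟩ := conj_of_card_eq_sylow (Subgroup.centralizer (E : Set G)) p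
    (T.map (MulAut.conj g).toMonoidHom) U hT'E hUE hT'c hU
  refine ⟨c * g, ?_⟩
  rw [hA, hB', Subgroup.map_sup, ← map_conj_mul, ← map_conj_mul, ← hg, map_conj_eq_self E c hcL,
    ← hc]

end G

end Cfsg.Agent.Lib.S3912
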