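import Mathlib
import Cfsg.Agent.S0016
import Cfsg.Agent.Lib.S3911.Min
import Cfsg.Agent.Lib.S3911.Syl
import Cfsg.Agent.Lib.S3911.Card

/-!
# S3912: the arguments of S3911 with the hypothesis "`M` of odd order" replaced by hypotheses on
the Sylow subgroups of `G`, prime by prime
-/

set_option autoImplicit false
set_option linter.style.haveILetI false
set_option linter.unusedSectionVars false

namespace Cfsg.Agent.Lib.S3912

open Cfsg.Agent.Lib.S3911

/-- from two different subgroups of order `p` of a `p`-group: commuting `z`, `h` of order `p`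
with `h ∉ ⟨z⟩` -/
theorem pair_of_two (Q : Type*) [Group Q] [Finite Q] (p : ℕ) [Fact p.Prime]
    (hQ : IsPGroup p Q) (H₁ H₂ : Subgroup Q) (hH₁ : Nat.card H₁ = p) (hH₂ : Nat.card H₂ = p)
    (hne : H₁ ≠ H₂) :
    ∃ z h : Q, orderOf z = p ∧ orderOf h = p ∧ z * h = h * z ∧ h ∉ Subgroup.zpowers z := by
  have hpp : p.Prime := Fact.out
  have hnt : Nontrivial Q := by
    by_contra hnt
    rw [not_nontrivial_iff_subsingleton] at hnt
    have : Nat.card H₁ = 1 := Nat.card_eq_one_iff_unique.2 ⟨inferInstance, inferInstance⟩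
    rw [hH₁] at this
    exact hpp.one_lt.ne' this
  obtain ⟨z₀, hz₀⟩ : ∃ z₀ : ↥(Subgroup.center Q), orderOf z₀ = p := by
    apply exists_prime_orderOf_dvd_card' p
    have hcn := hQ.center_nontrivial
    have hpc : IsPGroup p ↥(Subgroup.center Q) := hQ.to_subgroup _
    obtain ⟨n, hn⟩ := IsPGroup.iff_card.1 hpc
    have hn0 : n ≠ 0 := by
      rintro rfl
      have := Finite.one_lt_card (α := ↥(Subgroup.center Q))
      rw [hn] at this
      simp at this
    rw [hn]; exact dvd_pow_self p hn0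
  set z : Q := (z₀ : Q) with hz
  have hzo : orderOf z = p := by rw [hz, Subgroup.orderOf_coe]; exact hz₀
  have hzc : ∀ g : Q, g * z = z * g := fun g => (Subgroup.mem_center_iff.1 z₀.2 g)
  obtain ⟨H, hH, hHne⟩ : ∃ H : Subgroup Q, Nat.card H = p ∧ H ≠ Subgroup.zpowers z := by
    by_cases h1 : H₁ = Subgroup.zpowers z
    · exact ⟨H₂, hH₂, fun h2 => hne (h1.trans h2.symm)⟩
    · exact ⟨H₁, hH₁, h1⟩
  have hHbot : H ≠ ⊥ := by
    rintro rfl
    rw [Subgroup.card_bot] at hH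
    exact hpp.one_lt.ne hH
  obtain ⟨a, ha⟩ := (Subgroup.ne_bot_iff_exists_ne_one).1 hHbot
  obtain ⟨h, hhH, hh1⟩ : ∃ h : Q, h ∈ H ∧ h ≠ 1 :=
    ⟨(a : Q), a.2, fun h => ha (Subtype.ext h)⟩
  have hho : orderOf h = p := by
    have hd : orderOf h ∣ p := by
      have : orderOf (⟨h, hhH⟩ : H) ∣ Nat.card H := orderOf_dvd_natCard _
      rw [hH, ← Subgroup.orderOf_coe] at this
      exact this
    rcases (Nat.dvd_prime hpp).1 hd with h1 | h1
    · exact absurd (orderOf_eq_one_iff.1 h1) hh1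
    · exact h1
  have hzpH : Subgroup.zpowers h = H := by
    apply Subgroup.eq_of_le_of_card_ge ((Subgroup.zpowers_le).2 hhH)
    rw [Nat.card_zpowers, hho, hH]
  refine ⟨z, h, hzo, hho, (hzc h).symm, ?_⟩
  intro hmem
  apply hHne
  rw [← hzpH]
  apply Subgroup.eq_of_le_of_card_ge ((Subgroup.zpowers_le).2 hmem)
  rw [Nat.card_zpowers, Nat.card_zpowers, hho, hzo]

variable {G : Type*} [Group G] [Finite G]

/-- a Sylow `p`-subgroup of `G` (`p ∣ |M|`) with two different subgroups of order `p` lies in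
`M` -/
theorem sylow_le_of_two (M : Subgroup G) [M.Normal]
    (hB : ∀ A B : Subgroup G, IsMulCommutative ↥A → IsMulCommutative ↥B →
      Nat.card ↥A = Nat.card ↥B → ∃ g : G, B = A.map (MulAut.conj g).toMonoidHom)
    (p : ℕ) [Fact p.Prime] (hp : p ∣ Nat.card ↥M) (P : Sylow p G)
    (H₁ H₂ : Subgroup ↥(P : Subgroup G)) (hH₁ : Nat.card H₁ = p) (hH₂ : Nat.card H₂ = p)
    (hne : H₁ ≠ H₂) : (P : Subgroup G) ≤ M := by
  have hpp : p.Prime := Fact.out
  obtain ⟨z₀, h₀, hz₀, hh₀, hzh₀, hnot₀⟩ :=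
    pair_of_two ↥(P : Subgroup G) p P.isPGroup' H₁ H₂ hH₁ hH₂ hne
  have hz : orderOf (z₀ : G) = p := by rw [Subgroup.orderOf_coe]; exact hz₀
  have hh : orderOf (h₀ : G) = p := by rw [Subgroup.orderOf_coe]; exact hh₀
  have hzh : (z₀ : G) * (h₀ : G) = (h₀ : G) * (z₀ : G) := by
    have := congrArg Subtype.val hzh₀
    simpa using this
  have hnot : (h₀ : G) ∉ Subgroup.zpowers (z₀ : G) := by
    intro hmem
    apply hnot₀
    obtain ⟨k, hk⟩ := Subgroup.mem_zpowers_iff.1 hmem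
    refine Subgroup.mem_zpowers_iff.2 ⟨k, ?_⟩
    apply Subtype.ext
    simpa using hk
  intro x hx
  obtain ⟨k, hk⟩ := (IsPGroup.iff_orderOf.1 P.isPGroup') ⟨x, hx⟩
  have hk' : orderOf x = p ^ k := by
    rw [← hk, ← Subgroup.orderOf_coe]
  rcases Nat.lt_or_ge k 2 with hk2 | hk2
  · interval_cases k
    · rw [pow_zero, orderOf_eq_one_iff] at hk'
      rw [hk']; exact M.one_mem
    · rw [pow_one] at hk'
      exact mem_of_orderOf_eq M hB p hp x hk'
  · exfalso
    have hy : orderOf (x ^ p ^ (k - 2)) = p ^ 2 := by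
      rw [orderOf_pow_of_dvd (pow_ne_zero _ hpp.ne_zero)
        (by rw [hk']; exact pow_dvd_pow p (Nat.sub_le k 2)), hk']
      rw [Nat.pow_div (Nat.sub_le k 2) hpp.pos]
      congr 1
      omega
    exact no_order_sq hB p (z₀ : G) (h₀ : G) hz hh hzh hnot _ hy

/-- a Sylow `p`-subgroup of `G`, `p ∣ |M|`: cyclic, or inside `M`, or generalized quaternion -/
theorem sylow_trichotomy (M : Subgroup G) [M.Normal]
    (hB : ∀ A B : Subgroup G, IsMulCommutative ↥A → IsMulCommutative ↥B →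
      Nat.card ↥A = Nat.card ↥B → ∃ g : G, B = A.map (MulAut.conj g).toMonoidHom)
    (p : ℕ) [Fact p.Prime] (hp : p ∣ Nat.card ↥M) (P : Sylow p G) :
    IsCyclic ↥(P : Subgroup G) ∨ (P : Subgroup G) ≤ M ∨
      (p = 2 ∧ (∀ H K : Subgroup ↥(P : Subgroup G), Nat.card H = p → Nat.card K = p → H = K) ∧
        ∃ n : ℕ, Nonempty (↥(P : Subgroup G) ≃* QuaternionGroup (2 ^ n))) := by
  by_cases huniq : ∀ H K : Subgroup ↥(P : Subgroup G), Nat.card H = p → Nat.card K = p → H = K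
  · rcases Cfsg.Agent.S0016.result p P.isPGroup' huniq with h1 | ⟨h1, h2⟩
    · exact Or.inl h1
    · exact Or.inr (Or.inr ⟨h1, huniq, h2⟩)
  · push Not at huniq
    obtain ⟨H₁, H₂, hH₁, hH₂, hne⟩ := huniq
    exact Or.inr (Or.inl (sylow_le_of_two M hB p hp P H₁ H₂ hH₁ hH₂ hne))

/-- for `p ≠ 2`: cyclic or inside `M` -/
theorem sylow_cyclic_or_le' (M : Subgroup G) [M.Normal]
    (hB : ∀ A B : Subgroup G, IsMulCommutative ↥A → IsMulCommutative ↥B →
      Nat.card ↥A = Nat.card ↥B → ∃ g : G, B = A.map (MulAut.conj g).toMonoidHom)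
    (p : ℕ) [Fact p.Prime] (hp2 : p ≠ 2) (hp : p ∣ Nat.card ↥M) (P : Sylow p G) :
    IsCyclic ↥(P : Subgroup G) ∨ (P : Subgroup G) ≤ M := by
  rcases sylow_trichotomy M hB p hp P with h | h | ⟨h, -⟩
  · exact Or.inl h
  · exact Or.inr h
  · exact absurd h hp2

end Cfsg.Agent.Lib.S3912
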