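import Mathlib
import Cfsg.Agent.Lib.S3911.Syl
import Cfsg.Agent.Lib.S3912.Gen
import Cfsg.Agent.Lib.S3912.Quat

/-!
# S3912: the dichotomy

Either every Sylow `p`-subgroup of `G`, `p ∣ |M|`, is cyclic or inside `M`, or `2 ∣ |M|`,
`v₂(|M|) = 1` and `v₂(|G|) = 3` (a quaternion Sylow 2-subgroup of order 8 not inside `M`).
-/

set_option autoImplicit false
set_option linter.style.haveILetI false
set_option linter.unusedSectionVars false

namespace Cfsg.Agent.Lib.S3912

open Cfsg.Agent.Lib.S3911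

/-- a unique subgroup of order 2: a unique involution -/
theorem involution_unique (Q : Type*) [Group Q]
    (huniq : ∀ H K : Subgroup Q, Nat.card H = 2 → Nat.card K = 2 → H = K)
    (x y : Q) (hx : orderOf x = 2) (hy : orderOf y = 2) : x = y := by
  have h1 : Subgroup.zpowers x = Subgroup.zpowers y :=
    huniq _ _ (by rw [Nat.card_zpowers, hx]) (by rw [Nat.card_zpowers, hy])
  have hmem : x ∈ Subgroup.zpowers y := by rw [← h1]; exact Subgroup.mem_zpowers x
  obtain ⟨k, hk⟩ := Subgroup.mem_zpowers_iff.1 hmem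
  have hk' : y ^ (k % 2) = x := by
    have := zpow_mod_orderOf y k
    rw [hy] at this
    rw [← hk, ← this]
    norm_num
  rcases Int.emod_two_eq_zero_or_one k with h | h
  · rw [h, zpow_zero] at hk'
    rw [← hk', orderOf_one] at hx
    omega
  · rw [h, zpow_one] at hk'
    exact hk'.symm

variable {G : Type*} [Group G] [Finite G]

theorem orderOf_conj_eq (g x : G) : orderOf (g * x * g⁻¹) = orderOf x := by
  have := orderOf_injective (MulAut.conj g).toMonoidHom (MulAut.conj g).injective x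
  simpa using this

/-- the data of the quaternion case -/
theorem q8_data (M : Subgroup G) [M.Normal]
    (hB : ∀ A B : Subgroup G, IsMulCommutative ↥A → IsMulCommutative ↥B →
      Nat.card ↥A = Nat.card ↥B → ∃ g : G, B = A.map (MulAut.conj g).toMonoidHom)
    (hsol : Group.IsSolvable G)
    (P : Sylow 2 G) (h2M : 2 ∣ Nat.card ↥M) (hnc : ¬ IsCyclic ↥(P : Subgroup G))
    (hnM : ¬ (P : Subgroup G) ≤ M) :
    (Nat.card ↥M).factorization 2 = 1 ∧ (Nat.card G).factorization 2 = 3 := by
  haveI h2 : Fact (Nat.Prime 2) := ⟨Nat.prime_two⟩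
  rcases sylow_trichotomy M hB 2 h2M P with h | h | ⟨-, huniq, n, ⟨e⟩⟩
  · exact absurd h hnc
  · exact absurd h hnM
  have h4 : ∀ C C' : Subgroup G, IsCyclic ↥C → IsCyclic ↥C' → Nat.card ↥C = 4 →
      Nat.card ↥C' = 4 → ∃ g : G, C' = C.map (MulAut.conj g).toMonoidHom := by
    intro C C' hC hC' h1 h2
    exact hB C C' IsCyclic.isMulCommutative IsCyclic.isMulCommutative (h1.trans h2.symm)
  have hn1 : n ≤ 1 := quat_sylow_card hsol h4 P n e
  have hcardP : Nat.card ↥(P : Subgroup G) = 8 := by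
    interval_cases n
    · exfalso
      apply hnc
      have : IsCyclic (QuaternionGroup (2 ^ 0)) := by
        rw [pow_zero]; exact QuaternionGroup.quaternionGroup_one_isCyclic
      exact isCyclic_of_surjective e.symm e.symm.surjective
    · rw [Nat.card_congr e.toEquiv, Nat.card_eq_fintype_card, QuaternionGroup.card]
      norm_num
  have h8 : (Nat.card G).factorization 2 = 3 := by
    have h1 := P.card_eq_multiplicity
    rw [hcardP] at h1
    have h3 : (2 : ℕ) ^ 3 = 2 ^ (Nat.card G).factorization 2 := by rw [← h1]; norm_num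
    exact (Nat.pow_right_injective (le_refl 2) h3).symm
  refine ⟨?_, h8⟩
  have hinvP : ∀ x ∈ (P : Subgroup G), ∀ y ∈ (P : Subgroup G),
      orderOf x = 2 → orderOf y = 2 → x = y := by
    intro x hx y hy hox hoy
    have := involution_unique ↥(P : Subgroup G) huniq ⟨x, hx⟩ ⟨y, hy⟩
      (by rw [← Subgroup.orderOf_coe]; exact hox) (by rw [← Subgroup.orderOf_coe]; exact hoy)
    exact congrArg Subtype.val this
  have hordP : ∀ x ∈ (P : Subgroup G), orderOf x = 1 ∨ orderOf x = 2 ∨ orderOf x = 4 := by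
    intro x hx
    have hd : orderOf x ∣ 8 := by
      have := orderOf_dvd_natCard (⟨x, hx⟩ : ↥(P : Subgroup G))
      rw [hcardP, ← Subgroup.orderOf_coe] at this
      exact this
    have hne : orderOf x ≠ 8 := by
      intro h8'
      apply hnc
      apply isCyclic_of_orderOf_eq_card (⟨x, hx⟩ : ↥(P : Subgroup G))
      rw [hcardP, ← Subgroup.orderOf_coe]
      exact h8'
    have hmem : orderOf x ∈ Nat.divisors 8 := Nat.mem_divisors.2 ⟨hd, by norm_num⟩
    have h8d : Nat.divisors 8 = {1, 2, 4, 8} := by decide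
    rw [h8d] at hmem
    simp only [Finset.mem_insert, Finset.mem_singleton] at hmem
    omega
  have hno4 : ∀ y ∈ M, orderOf y ≠ 4 := by
    intro y hyM hy4
    apply hnM
    have hall4 : ∀ x : G, orderOf x = 4 → x ∈ M := by
      intro x hx4
      obtain ⟨g, hg⟩ := hB (Subgroup.zpowers y) (Subgroup.zpowers x) inferInstance inferInstance
        (by rw [Nat.card_zpowers, Nat.card_zpowers, hy4, hx4])
      have hxmem : x ∈ (Subgroup.zpowers y).map (MulAut.conj g).toMonoidHom := by
        rw [← hg]; exact Subgroup.mem_zpowers x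
      obtain ⟨w, hw, rfl⟩ := hxmem
      have hwM : w ∈ M := (Subgroup.zpowers_le.2 hyM) hw
      simpa using (inferInstance : M.Normal).conj_mem w hwM g
    intro x hx
    rcases hordP x hx with h | h | h
    · rw [orderOf_eq_one_iff.1 h]; exact M.one_mem
    · exact mem_of_orderOf_eq M hB 2 h2M x h
    · exact hall4 x h
  have hne : Nat.card ↥M ≠ 0 := Nat.card_pos.ne'
  have h1 : 1 ≤ (Nat.card ↥M).factorization 2 :=
    (Nat.prime_two.pow_dvd_iff_le_factorization hne).1 (by simpa using h2M)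
  by_contra hcon
  have h2' : 2 ≤ (Nat.card ↥M).factorization 2 := by omega
  have h4dvd : 2 ^ 2 ∣ Nat.card ↥M := (Nat.prime_two.pow_dvd_iff_le_factorization hne).2 h2'
  obtain ⟨H, hH⟩ := Sylow.exists_subgroup_card_pow_prime 2 h4dvd
  have hH'c : Nat.card ↥(H.map M.subtype) = 4 := by
    rw [Subgroup.card_map_of_injective M.subtype_injective, hH]; norm_num
  have hH'M : H.map M.subtype ≤ M := by
    rintro _ ⟨x, _, rfl⟩; exact x.2
  have hH'p : IsPGroup 2 ↥(H.map M.subtype) := IsPGroup.of_card (n := 2) (by rw [hH'c]; norm_num)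
  obtain ⟨P', hP'⟩ := hH'p.exists_le_sylow
  obtain ⟨g, hg⟩ := MulAction.exists_smul_eq G P' P
  have hordH : ∀ x ∈ H.map M.subtype, x ≠ 1 → orderOf x = 2 := by
    intro x hx hx1
    have hd : orderOf x ∣ 4 := by
      have := orderOf_dvd_natCard (⟨x, hx⟩ : ↥(H.map M.subtype))
      rw [hH'c, ← Subgroup.orderOf_coe] at this
      exact this
    have hne4 := hno4 x (hH'M hx)
    have hne1 : orderOf x ≠ 1 := fun h => hx1 (orderOf_eq_one_iff.1 h)
    have hmem : orderOf x ∈ Nat.divisors 4 := Nat.mem_divisors.2 ⟨hd, by norm_num⟩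
    have h4d : Nat.divisors 4 = {1, 2, 4} := by decide
    rw [h4d] at hmem
    simp only [Finset.mem_insert, Finset.mem_singleton] at hmem
    omega
  obtain ⟨a, haH, ha1⟩ : ∃ a ∈ H.map M.subtype, a ≠ 1 := by
    by_contra hcon'
    push Not at hcon'
    have : H.map M.subtype = ⊥ := (Subgroup.eq_bot_iff_forall _).2 hcon'
    rw [this, Subgroup.card_bot] at hH'c
    omega
  have hza : Subgroup.zpowers a ≠ H.map M.subtype := by
    intro h
    have h' : Nat.card ↥(Subgroup.zpowers a) = Nat.card ↥(H.map M.subtype) := by rw [h]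
    rw [Nat.card_zpowers, hordH a haH ha1, hH'c] at h'
    omega
  obtain ⟨b, hbH, hbz⟩ : ∃ b ∈ H.map M.subtype, b ∉ Subgroup.zpowers a := by
    by_contra hcon'
    push Not at hcon'
    exact hza (le_antisymm (Subgroup.zpowers_le.2 haH) hcon')
  have hb1 : b ≠ 1 := fun h => hbz (h ▸ Subgroup.one_mem _)
  have hab : a ≠ b := fun h => hbz (h ▸ Subgroup.mem_zpowers a)
  have hconjP : ∀ x ∈ H.map M.subtype, g * x * g⁻¹ ∈ (P : Subgroup G) := by
    intro x hx
    have hx' : x ∈ (P' : Subgroup G) := hP' hx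
    rw [← hg, Sylow.coe_subgroup_smul, Subgroup.mem_pointwise_smul_iff_inv_smul_mem]
    have : (MulAut.conj g)⁻¹ • (g * x * g⁻¹) = x := by simp [MulAut.smul_def, mul_assoc]
    rw [this]; exact hx'
  have hfin := hinvP (g * a * g⁻¹) (hconjP a haH) (g * b * g⁻¹) (hconjP b hbH)
    (by rw [orderOf_conj_eq]; exact hordH a haH ha1)
    (by rw [orderOf_conj_eq]; exact hordH b hbH hb1)
  exact hab (mul_left_cancel (mul_right_cancel hfin))

/-- the dichotomy -/
theorem dichotomy (M : Subgroup G) [M.Normal]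
    (hB : ∀ A B : Subgroup G, IsMulCommutative ↥A → IsMulCommutative ↥B →
      Nat.card ↥A = Nat.card ↥B → ∃ g : G, B = A.map (MulAut.conj g).toMonoidHom)
    (hsol : Group.IsSolvable G) :
    (∀ (p : ℕ) [Fact p.Prime], p ∣ Nat.card ↥M → ∀ P : Sylow p G,
      IsCyclic ↥(P : Subgroup G) ∨ (P : Subgroup G) ≤ M) ∨
    (2 ∣ Nat.card ↥M ∧ (Nat.card ↥M).factorization 2 = 1 ∧
      (Nat.card G).factorization 2 = 3) := by
  by_cases hC : ∀ (p : ℕ) [Fact p.Prime], p ∣ Nat.card ↥M → ∀ P : Sylow p G,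
      IsCyclic ↥(P : Subgroup G) ∨ (P : Subgroup G) ≤ M
  · exact Or.inl hC
  · right
    push Not at hC
    obtain ⟨p, hp, hpM, P, hnc, hnM⟩ := hC
    haveI := hp
    have hp2 : p = 2 := by
      rcases sylow_trichotomy M hB p hpM P with h | h | ⟨h, -⟩
      · exact absurd h hnc
      · exact absurd h hnM
      · exact h
    subst hp2
    obtain ⟨hv, h8⟩ := q8_data M hB hsol P hpM hnc hnM
    exact ⟨hpM, hv, h8⟩

end Cfsg.Agent.Lib.S3912
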