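import Mathlib
import Cfsg.Agent.Lib.S3911.Min
import Cfsg.Agent.Lib.S3911.Cyc
import Cfsg.Agent.Lib.S3911.Card

/-!
# S3912: the counting and commutativity arguments of S3911, prime by prime

`factorization_inf'` and `sylow_comm_of_h2p` are the arguments of `factorization_inf` and
`comm_of_min` of S3911 for one prime `p`, with the hypothesis "every Sylow `p`-subgroup of `G` is
cyclic or inside `M`" for that prime only.  `main_of_h2` is S3911 with that hypothesis for all
primes.
-/

set_option autoImplicit false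
set_option linter.style.haveILetI false
set_option linter.unusedSectionVars false

namespace Cfsg.Agent.Lib.S3912

open Cfsg.Agent.Lib.S3911

variable {G : Type*} [Group G] [Finite G]

theorem factorization_inf' (M : Subgroup G) [M.Normal] (A : Subgroup G)
    (hR : ∀ (p : ℕ) [Fact p.Prime] (S : Sylow p ↥A),
      (S : Subgroup ↥A).map A.subtype ≤ M → (S : Subgroup ↥A) = ⊥)
    (p : ℕ) [Fact p.Prime]
    (h2p : p ∣ Nat.card ↥(A.map (QuotientGroup.mk' M)) → p ∣ Nat.card ↥M → ∀ P : Sylow p G,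
      IsCyclic ↥(P : Subgroup G) ∨ (P : Subgroup G) ≤ M) :
    (Nat.card ↥(A ⊓ M)).factorization p =
      if p ∣ Nat.card ↥(A.map (QuotientGroup.mk' M)) then (Nat.card ↥M).factorization p
      else 0 := by
  have hp : p.Prime := Fact.out
  have hdvdM : Nat.card ↥(A ⊓ M) ∣ Nat.card ↥M := Subgroup.card_dvd_of_le inf_le_right
  have hdvdA : Nat.card ↥(A ⊓ M) ∣ Nat.card ↥A := Subgroup.card_dvd_of_le inf_le_left
  obtain S : Sylow p ↥A := default
  split_ifs with hdiv
  · by_cases hpM : p ∣ Nat.card ↥M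
    · have hpA : p ∣ Nat.card ↥A := hdiv.trans (Dvd.intro _ (card_eq_map_mul_inf M A).symm)
      have hSM : ¬ (S : Subgroup ↥A).map A.subtype ≤ M :=
        fun h => S.ne_bot_of_dvd_card hpA (hR p S h)
      obtain ⟨P, hSP⟩ := IsPGroup.exists_le_sylow (S.isPGroup'.map A.subtype)
      have hcyc : IsCyclic ↥(P : Subgroup G) := by
        rcases h2p hdiv hpM P with h | h
        · exact h
        · exact absurd (hSP.trans h) hSM
      obtain Q : Sylow p ↥M := default
      obtain ⟨P', hQP'⟩ := IsPGroup.exists_le_sylow (Q.isPGroup'.map M.subtype)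
      obtain ⟨g, hg⟩ := MulAction.exists_smul_eq G P' P
      set Q' : Subgroup G :=
        ((Q : Subgroup ↥M).map M.subtype).map (MulAut.conj g).toMonoidHom with hQ'
      have hQ'P : Q' ≤ P := by
        rw [← hg]
        rintro _ ⟨x, hx, rfl⟩
        have hx' : x ∈ (P' : Subgroup G) := hQP' hx
        rw [Sylow.coe_subgroup_smul, Subgroup.mem_pointwise_smul_iff_inv_smul_mem]
        have : (MulAut.conj g)⁻¹ • (MulAut.conj g).toMonoidHom x = x := by
          simp [MulAut.smul_def, mul_assoc]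
        rw [this]; exact hx'
      have hQ'M : Q' ≤ M := by
        rintro _ ⟨x, ⟨y, hy, rfl⟩, rfl⟩
        have : (y : G) ∈ M := y.2
        simpa using (inferInstance : M.Normal).conj_mem _ this g
      have hQ'card : Nat.card ↥Q' = p ^ (Nat.card ↥M).factorization p := by
        rw [hQ', Subgroup.card_map_of_injective (MulAut.conj g).injective,
          Subgroup.card_map_of_injective M.subtype_injective, Q.card_eq_multiplicity]
      have hScard : Nat.card ↥((S : Subgroup ↥A).map A.subtype) =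
          p ^ (Nat.card ↥A).factorization p := by
        rw [Subgroup.card_map_of_injective A.subtype_injective, S.card_eq_multiplicity]
      have hle : Q' ≤ (S : Subgroup ↥A).map A.subtype := by
        rcases le_total ((Nat.card ↥M).factorization p) ((Nat.card ↥A).factorization p) with h | h
        · apply le_of_card_dvd_of_le_cyclic (P : Subgroup G) _ _ hQ'P hSP
          rw [hQ'card, hScard]; exact pow_dvd_pow p h
        · exfalso
          apply hSM
          have : (S : Subgroup ↥A).map A.subtype ≤ Q' := by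
            apply le_of_card_dvd_of_le_cyclic (P : Subgroup G) _ _ hSP hQ'P
            rw [hQ'card, hScard]; exact pow_dvd_pow p h
          exact this.trans hQ'M
      have hQ'AM : Q' ≤ A ⊓ M := by
        refine le_inf (hle.trans ?_) hQ'M
        rintro _ ⟨x, _, rfl⟩
        exact x.2
      have h3 : p ^ (Nat.card ↥M).factorization p ∣ Nat.card ↥(A ⊓ M) := by
        rw [← hQ'card]; exact Subgroup.card_dvd_of_le hQ'AM
      have hne1 : Nat.card ↥(A ⊓ M) ≠ 0 := Nat.card_pos.ne'
      have hne2 : Nat.card ↥M ≠ 0 := Nat.card_pos.ne'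
      have h4 := (hp.pow_dvd_iff_le_factorization hne1).1 h3
      have h5 := (Nat.factorization_le_iff_dvd hne1 hne2).2 hdvdM p
      exact le_antisymm h5 h4
    · rw [Nat.factorization_eq_zero_of_not_dvd hpM,
        Nat.factorization_eq_zero_of_not_dvd (fun h => hpM (h.trans hdvdM))]
  · have hSM : (S : Subgroup ↥A).map A.subtype ≤ M := by
      rintro _ ⟨s, hs, rfl⟩
      have hmem : QuotientGroup.mk' M (s : G) ∈ A.map (QuotientGroup.mk' M) := ⟨s, s.2, rfl⟩
      obtain ⟨k, hk⟩ := (S.isPGroup' ⟨s, hs⟩)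
      have hk' : (s : G) ^ p ^ k = 1 := by
        have h3 := congrArg Subtype.val (congrArg Subtype.val hk)
        simpa using h3
      have h1 : orderOf (QuotientGroup.mk' M (s : G)) ∣ p ^ k := by
        apply orderOf_dvd_of_pow_eq_one
        rw [← map_pow, hk', map_one]
      have h3 : orderOf (QuotientGroup.mk' M (s : G)) ∣ Nat.card ↥(A.map (QuotientGroup.mk' M)) := by
        have : orderOf (⟨_, hmem⟩ : ↥(A.map (QuotientGroup.mk' M))) ∣
            Nat.card ↥(A.map (QuotientGroup.mk' M)) := orderOf_dvd_natCard _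
        rw [← Subgroup.orderOf_coe] at this
        simpa using this
      have hcop : Nat.Coprime (p ^ k) (Nat.card ↥(A.map (QuotientGroup.mk' M))) :=
        Nat.Coprime.pow_left k ((Nat.Prime.coprime_iff_not_dvd hp).2 hdiv)
      have h4 : orderOf (QuotientGroup.mk' M (s : G)) = 1 := Nat.eq_one_of_dvd_coprimes hcop h1 h3
      have h5 := orderOf_eq_one_iff.1 h4
      exact (QuotientGroup.eq_one_iff (s : G)).1 h5
    have hbot := hR p S hSM
    have : ¬ p ∣ Nat.card ↥A := fun h => S.ne_bot_of_dvd_card h hbot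
    exact Nat.factorization_eq_zero_of_not_dvd (fun h => this (h.trans hdvdA))

theorem sylow_comm_of_h2p (M : Subgroup G) [M.Normal] (A : Subgroup G)
    (hAbar : ∀ x ∈ A, ∀ y ∈ A, x * y * x⁻¹ * y⁻¹ ∈ M)
    (hR : ∀ (p : ℕ) [Fact p.Prime] (S : Sylow p ↥A),
      (S : Subgroup ↥A).map A.subtype ≤ M → (S : Subgroup ↥A) = ⊥)
    (p : ℕ) [Fact p.Prime]
    (h2p : p ∣ Nat.card ↥M → ∀ P : Sylow p G,
      IsCyclic ↥(P : Subgroup G) ∨ (P : Subgroup G) ≤ M)
    (S : Sylow p ↥A) :
    ∀ x ∈ (S : Subgroup ↥A), ∀ y ∈ (S : Subgroup ↥A), x * y = y * x := by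
  intro x hx y hy
  by_cases hp : p ∣ Nat.card ↥M
  · obtain ⟨P, hSP⟩ := IsPGroup.exists_le_sylow (S.isPGroup'.map A.subtype)
    rcases h2p hp P with hcyc | hle
    · have hxP : (x : G) ∈ (P : Subgroup G) := hSP ⟨x, hx, rfl⟩
      have hyP : (y : G) ∈ (P : Subgroup G) := hSP ⟨y, hy, rfl⟩
      have := (isMulCommutative_iff.1 (IsCyclic.isMulCommutative (α := ↥(P : Subgroup G)))) ⟨x, hxP⟩ ⟨y, hyP⟩
      apply Subtype.ext
      simpa using congrArg Subtype.val this
    · have hbot := hR p S (hSP.trans hle)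
      rw [hbot, Subgroup.mem_bot] at hx
      rw [hx]; simp
  · set c : ↥A := x * y * x⁻¹ * y⁻¹ with hc
    have hcS : c ∈ (S : Subgroup ↥A) :=
      mul_mem (mul_mem (mul_mem hx hy) (inv_mem hx)) (inv_mem hy)
    have hcM : (c : G) ∈ M := by
      have := hAbar x x.2 y y.2
      simpa [hc] using this
    obtain ⟨k, hk⟩ := (S.isPGroup' ⟨c, hcS⟩)
    have h1 : orderOf c ∣ p ^ k := by
      apply orderOf_dvd_of_pow_eq_one
      simpa using congrArg Subtype.val hk
    have h3 : orderOf c ∣ Nat.card ↥M := by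
      have : orderOf (⟨(c : G), hcM⟩ : ↥M) ∣ Nat.card ↥M := orderOf_dvd_natCard _
      rw [← Subgroup.orderOf_coe] at this
      simpa using this
    have hcop : Nat.Coprime (p ^ k) (Nat.card ↥M) :=
      Nat.Coprime.pow_left k ((Nat.Prime.coprime_iff_not_dvd (Fact.out)).2 hp)
    have h4 : orderOf c = 1 := Nat.eq_one_of_dvd_coprimes hcop h1 h3
    have h5 : c = 1 := orderOf_eq_one_iff.1 h4
    have : x * y * x⁻¹ * y⁻¹ = 1 := h5
    calc x * y = (x * y * x⁻¹ * y⁻¹) * (y * x) := by group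
      _ = y * x := by rw [this, one_mul]

/-- the argument of S3911, with the only consequence of "`|M|` odd" used there as hypothesis -/
theorem main_of_h2 (M : Subgroup G) [M.Normal]
    (hB : ∀ A B : Subgroup G, IsMulCommutative ↥A → IsMulCommutative ↥B →
      Nat.card ↥A = Nat.card ↥B → ∃ g : G, B = A.map (MulAut.conj g).toMonoidHom)
    (h2 : ∀ (p : ℕ) [Fact p.Prime], p ∣ Nat.card ↥M → ∀ P : Sylow p G,
      IsCyclic ↥(P : Subgroup G) ∨ (P : Subgroup G) ≤ M) :
    ∀ A B : Subgroup (G ⧸ M), IsMulCommutative ↥A → IsMulCommutative ↥B →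
      Nat.card ↥A = Nat.card ↥B → ∃ g : G ⧸ M, B = A.map (MulAut.conj g).toMonoidHom := by
  intro Abar Bbar hAc hBc hcard
  obtain ⟨A, hAmap, hAmin, hAn⟩ := Cfsg.Agent.Lib.S3911.exists_min_supp M Abar hAc
  obtain ⟨B, hBmap, hBmin, hBn⟩ := Cfsg.Agent.Lib.S3911.exists_min_supp M Bbar hBc
  have hRA : ∀ (p : ℕ) [Fact p.Prime] (S : Sylow p ↥A),
      (S : Subgroup ↥A).map A.subtype ≤ M → (S : Subgroup ↥A) = ⊥ := by
    intro p _ S hS
    exact Cfsg.Agent.Lib.S3911.sylow_eq_bot_of_le M A (fun X hX h => hAmin X hX (h.trans hAmap)) p S (hAn p S) hS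
  have hRB : ∀ (p : ℕ) [Fact p.Prime] (S : Sylow p ↥B),
      (S : Subgroup ↥B).map B.subtype ≤ M → (S : Subgroup ↥B) = ⊥ := by
    intro p _ S hS
    exact Cfsg.Agent.Lib.S3911.sylow_eq_bot_of_le M B (fun X hX h => hBmin X hX (h.trans hBmap)) p S (hBn p S) hS
  have hAc' : IsMulCommutative ↥A :=
    isMulCommutative_iff.2 (Cfsg.Agent.Lib.S3911.comm_of_min M A (Cfsg.Agent.Lib.S3911.comm_quot M A (hAmap ▸ hAc)) (fun {p} _ S => hAn p S) hRA h2)
  have hBc' : IsMulCommutative ↥B :=
    isMulCommutative_iff.2 (Cfsg.Agent.Lib.S3911.comm_of_min M B (Cfsg.Agent.Lib.S3911.comm_quot M B (hBmap ▸ hBc)) (fun {p} _ S => hBn p S) hRB h2)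
  have hinf : Nat.card ↥(A ⊓ M) = Nat.card ↥(B ⊓ M) := by
    apply Nat.eq_of_factorization_eq Nat.card_pos.ne' Nat.card_pos.ne'
    intro p
    by_cases hp : p.Prime
    · have : Fact p.Prime := ⟨hp⟩
      rw [Cfsg.Agent.Lib.S3911.factorization_inf M A hRA h2 p, Cfsg.Agent.Lib.S3911.factorization_inf M B hRB h2 p, hAmap, hBmap, hcard]
    · rw [Nat.factorization_eq_zero_of_not_prime _ hp, Nat.factorization_eq_zero_of_not_prime _ hp]
  have hAB : Nat.card ↥A = Nat.card ↥B := by
    rw [Cfsg.Agent.Lib.S3911.card_eq_map_mul_inf M A, Cfsg.Agent.Lib.S3911.card_eq_map_mul_inf M B, hAmap, hBmap, hcard, hinf]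
  obtain ⟨g, hg⟩ := hB A B hAc' hBc' hAB
  refine ⟨QuotientGroup.mk' M g, ?_⟩
  rw [← hBmap, ← hAmap]
  exact Cfsg.Agent.Lib.S3911.map_conj M A B g hg

end Cfsg.Agent.Lib.S3912
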