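import Mathlib
import Cfsg.Agent.Lib.S3911.Min
import Cfsg.Agent.Lib.S3911.Syl
import Cfsg.Agent.Lib.S3911.Card
import Cfsg.Agent.Lib.S3912.Gen
import Cfsg.Agent.Lib.S3912.Fac
import Cfsg.Agent.Lib.S3912.Dec

/-!
# S3912: the case of a quaternion Sylow 2-subgroup of order 8 not contained in `M`

Here `2 ∣ |M|`, `v₂(|M|) = 1` and `v₂(|G|) = 3`.  A minimal supplement `A` of an abelian subgroup
of `G ⧸ M` is abelian if `v₂(|A|) ≤ 2`, and is `T ⊔ D` with `T` a Sylow 2-subgroup of `G` and `D`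
abelian, centralized by `T`, otherwise.
-/

set_option autoImplicit false
set_option linter.style.haveILetI false
set_option linter.unusedSectionVars false

namespace Cfsg.Agent.Lib.S3912

open Cfsg.Agent.Lib.S3911

variable {G : Type*} [Group G] [Finite G]

theorem factorization_inf_q8 (M : Subgroup G) [M.Normal]
    (hB : ∀ A B : Subgroup G, IsMulCommutative ↥A → IsMulCommutative ↥B →
      Nat.card ↥A = Nat.card ↥B → ∃ g : G, B = A.map (MulAut.conj g).toMonoidHom)
    (h2M : 2 ∣ Nat.card ↥M) (hv : (Nat.card ↥M).factorization 2 = 1)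
    (A : Subgroup G)
    (hR : ∀ (p : ℕ) [Fact p.Prime] (S : Sylow p ↥A),
      (S : Subgroup ↥A).map A.subtype ≤ M → (S : Subgroup ↥A) = ⊥)
    (p : ℕ) [Fact p.Prime] :
    (Nat.card ↥(A ⊓ M)).factorization p =
      if p ∣ Nat.card ↥(A.map (QuotientGroup.mk' M)) then (Nat.card ↥M).factorization p
      else 0 := by
  by_cases hp2 : p = 2
  · subst hp2
    by_cases hdiv : 2 ∣ Nat.card ↥(A.map (QuotientGroup.mk' M))
    · rw [if_pos hdiv, hv]
      have hA2 : 2 ∣ Nat.card ↥A := hdiv.trans (Dvd.intro _ (card_eq_map_mul_inf M A).symm)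
      obtain ⟨t, ht⟩ := exists_prime_orderOf_dvd_card' 2 hA2
      have ht' : orderOf (t : G) = 2 := by rw [Subgroup.orderOf_coe]; exact ht
      have htM : (t : G) ∈ M := mem_of_orderOf_eq M hB 2 h2M (t : G) ht'
      have h2 : 2 ∣ Nat.card ↥(A ⊓ M) := by
        have h := orderOf_dvd_natCard (⟨(t : G), Subgroup.mem_inf.2 ⟨t.2, htM⟩⟩ : ↥(A ⊓ M))
        rw [← Subgroup.orderOf_coe] at h
        rw [← ht']; exact h
      have hne1 : Nat.card ↥(A ⊓ M) ≠ 0 := Nat.card_pos.ne'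
      have hne2 : Nat.card ↥M ≠ 0 := Nat.card_pos.ne'
      have h4 : 1 ≤ (Nat.card ↥(A ⊓ M)).factorization 2 :=
        (Nat.prime_two.pow_dvd_iff_le_factorization hne1).1 (by simpa using h2)
      have h5 := (Nat.factorization_le_iff_dvd hne1 hne2).2
        (Subgroup.card_dvd_of_le (inf_le_right : A ⊓ M ≤ M)) 2
      rw [hv] at h5
      omega
    · exact factorization_inf' M A hR 2 (fun h => absurd h hdiv)
  · exact factorization_inf' M A hR p (fun _ hpM P => sylow_cyclic_or_le' M hB p hp2 hpM P)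

theorem comm_of_v2_le (M : Subgroup G) [M.Normal]
    (hB : ∀ A B : Subgroup G, IsMulCommutative ↥A → IsMulCommutative ↥B →
      Nat.card ↥A = Nat.card ↥B → ∃ g : G, B = A.map (MulAut.conj g).toMonoidHom)
    (A : Subgroup G)
    (hAbar : ∀ x ∈ A, ∀ y ∈ A, x * y * x⁻¹ * y⁻¹ ∈ M)
    (hnorm : ∀ (p : ℕ) [Fact p.Prime] (S : Sylow p ↥A), (S : Subgroup ↥A).Normal)
    (hR : ∀ (p : ℕ) [Fact p.Prime] (S : Sylow p ↥A),
      (S : Subgroup ↥A).map A.subtype ≤ M → (S : Subgroup ↥A) = ⊥)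
    (h : (Nat.card ↥A).factorization 2 ≤ 2) : ∀ x y : ↥A, x * y = y * x := by
  apply comm_of_sylow ↥A (fun {p} _ S => hnorm p S)
  intro p _ S x hx y hy
  by_cases hp2 : p = 2
  · subst hp2
    obtain ⟨k, hk, hk2⟩ : ∃ k, Nat.card ↥(S : Subgroup ↥A) = 2 ^ k ∧ k ≤ 2 :=
      ⟨_, S.card_eq_multiplicity, h⟩
    have hcomm : ∀ a b : ↥(S : Subgroup ↥A), a * b = b * a := by
      interval_cases k
      · have : Subsingleton ↥(S : Subgroup ↥A) :=
          (Nat.card_eq_one_iff_unique.1 (by simpa using hk)).1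
        intro a b
        rw [Subsingleton.elim a b]
      · haveI := isCyclic_of_prime_card (α := ↥(S : Subgroup ↥A)) (p := 2) (by simpa using hk)
        exact isMulCommutative_iff.1 (IsCyclic.isMulCommutative (α := ↥(S : Subgroup ↥A)))
      · exact isMulCommutative_iff.1 (IsPGroup.isMulCommutative_of_card_eq_prime_sq hk)
    have := hcomm ⟨x, hx⟩ ⟨y, hy⟩
    exact congrArg Subtype.val this
  · exact sylow_comm_of_h2p M A hAbar hR p (sylow_cyclic_or_le' M hB p hp2) S x hx y hy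

theorem decomp_of_v2_eq (M : Subgroup G) [M.Normal]
    (hB : ∀ A B : Subgroup G, IsMulCommutative ↥A → IsMulCommutative ↥B →
      Nat.card ↥A = Nat.card ↥B → ∃ g : G, B = A.map (MulAut.conj g).toMonoidHom)
    (A : Subgroup G)
    (hAbar : ∀ x ∈ A, ∀ y ∈ A, x * y * x⁻¹ * y⁻¹ ∈ M)
    (hnorm : ∀ (p : ℕ) [Fact p.Prime] (S : Sylow p ↥A), (S : Subgroup ↥A).Normal)
    (hR : ∀ (p : ℕ) [Fact p.Prime] (S : Sylow p ↥A),
      (S : Subgroup ↥A).map A.subtype ≤ M → (S : Subgroup ↥A) = ⊥)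
    (h : (Nat.card ↥A).factorization 2 = (Nat.card G).factorization 2) :
    ∃ T D : Subgroup G, A = T ⊔ D ∧ IsMulCommutative ↥D ∧
      T ≤ Subgroup.centralizer (D : Set G) ∧
      Nat.card ↥T = 2 ^ (Nat.card G).factorization 2 ∧
      Nat.card ↥T * Nat.card ↥D = Nat.card ↥A := by
  haveI h2 : Fact (Nat.Prime 2) := ⟨Nat.prime_two⟩
  obtain T₀ : Sylow 2 ↥A := default
  obtain ⟨D₀, hsup, hcen, hcard⟩ := exists_central_complement (K := ↥A) hnorm
    (fun p _ hp2 S => sylow_comm_of_h2p M A hAbar hR p (sylow_cyclic_or_le' M hB p hp2) S) T₀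
  refine ⟨(T₀ : Subgroup ↥A).map A.subtype, D₀.map A.subtype, ?_, ?_, ?_, ?_, ?_⟩
  · rw [← Subgroup.map_sup, hsup, ← MonoidHom.range_eq_map, Subgroup.range_subtype]
  · refine isMulCommutative_iff.2 ?_
    rintro ⟨_, ⟨x, hx, rfl⟩⟩ ⟨_, ⟨y, hy, rfl⟩⟩
    apply Subtype.ext
    have := (Subgroup.mem_center_iff.1 (hcen hx)) y
    simpa using (congrArg Subtype.val this).symm
  · rintro _ ⟨t, ht, rfl⟩
    rw [Subgroup.mem_centralizer_iff]
    rintro _ ⟨d, hd, rfl⟩
    have := (Subgroup.mem_center_iff.1 (hcen hd)) t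
    simpa using (congrArg Subtype.val this).symm
  · rw [Subgroup.card_map_of_injective A.subtype_injective, T₀.card_eq_multiplicity, h]
  · rw [Subgroup.card_map_of_injective A.subtype_injective,
      Subgroup.card_map_of_injective A.subtype_injective, hcard]

theorem main_q8 (M : Subgroup G) [M.Normal]
    (hB : ∀ A B : Subgroup G, IsMulCommutative ↥A → IsMulCommutative ↥B →
      Nat.card ↥A = Nat.card ↥B → ∃ g : G, B = A.map (MulAut.conj g).toMonoidHom)
    (h2M : 2 ∣ Nat.card ↥M) (hv : (Nat.card ↥M).factorization 2 = 1)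
    (h8 : (Nat.card G).factorization 2 = 3) :
    ∀ A B : Subgroup (G ⧸ M), IsMulCommutative ↥A → IsMulCommutative ↥B →
      Nat.card ↥A = Nat.card ↥B → ∃ g : G ⧸ M, B = A.map (MulAut.conj g).toMonoidHom := by
  intro Abar Bbar hAc hBc hcard
  haveI h2 : Fact (Nat.Prime 2) := ⟨Nat.prime_two⟩
  obtain ⟨A, hAmap, hAmin, hAn⟩ := exists_min_supp M Abar hAc
  obtain ⟨B, hBmap, hBmin, hBn⟩ := exists_min_supp M Bbar hBc
  have hRA : ∀ (p : ℕ) [Fact p.Prime] (S : Sylow p ↥A),
      (S : Subgroup ↥A).map A.subtype ≤ M → (S : Subgroup ↥A) = ⊥ := by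
    intro p _ S hS
    exact sylow_eq_bot_of_le M A (fun X hX h => hAmin X hX (h.trans hAmap)) p S (hAn p S) hS
  have hRB : ∀ (p : ℕ) [Fact p.Prime] (S : Sylow p ↥B),
      (S : Subgroup ↥B).map B.subtype ≤ M → (S : Subgroup ↥B) = ⊥ := by
    intro p _ S hS
    exact sylow_eq_bot_of_le M B (fun X hX h => hBmin X hX (h.trans hBmap)) p S (hBn p S) hS
  have hAbar := comm_quot M A (hAmap ▸ hAc)
  have hBbar := comm_quot M B (hBmap ▸ hBc)
  have hinf : Nat.card ↥(A ⊓ M) = Nat.card ↥(B ⊓ M) := by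
    apply Nat.eq_of_factorization_eq Nat.card_pos.ne' Nat.card_pos.ne'
    intro p
    by_cases hp : p.Prime
    · have : Fact p.Prime := ⟨hp⟩
      rw [factorization_inf_q8 M hB h2M hv A hRA p, factorization_inf_q8 M hB h2M hv B hRB p,
        hAmap, hBmap, hcard]
    · rw [Nat.factorization_eq_zero_of_not_prime _ hp, Nat.factorization_eq_zero_of_not_prime _ hp]
  have hAB : Nat.card ↥A = Nat.card ↥B := by
    rw [card_eq_map_mul_inf M A, card_eq_map_mul_inf M B, hAmap, hBmap, hcard, hinf]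
  have hle : (Nat.card ↥A).factorization 2 ≤ (Nat.card G).factorization 2 :=
    (Nat.factorization_le_iff_dvd Nat.card_pos.ne' Nat.card_pos.ne').2
      (Subgroup.card_subgroup_dvd_card A) 2
  suffices hconj : ∃ g : G, B = A.map (MulAut.conj g).toMonoidHom by
    obtain ⟨g, hg⟩ := hconj
    refine ⟨QuotientGroup.mk' M g, ?_⟩
    rw [← hBmap, ← hAmap]
    exact map_conj M A B g hg
  rcases Nat.lt_or_ge ((Nat.card ↥A).factorization 2) 3 with hlt | hge
  · have hA2 : (Nat.card ↥A).factorization 2 ≤ 2 := by omega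
    have hB2 : (Nat.card ↥B).factorization 2 ≤ 2 := by rw [← hAB]; exact hA2
    exact hB A B (isMulCommutative_iff.2 (comm_of_v2_le M hB A hAbar hAn hRA hA2))
      (isMulCommutative_iff.2 (comm_of_v2_le M hB B hBbar hBn hRB hB2)) hAB
  · have hA3 : (Nat.card ↥A).factorization 2 = (Nat.card G).factorization 2 := by omega
    have hB3 : (Nat.card ↥B).factorization 2 = (Nat.card G).factorization 2 := by
      rw [← hAB]; exact hA3
    obtain ⟨T, D, hATD, hDc, hTD, hTc, hTDc⟩ := decomp_of_v2_eq M hB A hAbar hAn hRA hA3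
    obtain ⟨U, E, hBUE, hEc, hUE, hUc, hUEc⟩ := decomp_of_v2_eq M hB B hBbar hBn hRB hB3
    have hDE : Nat.card ↥D = Nat.card ↥E := by
      have h1 : Nat.card ↥T * Nat.card ↥D = Nat.card ↥U * Nat.card ↥E := by
        rw [hTDc, hUEc, hAB]
      rw [hTc, hUc] at h1
      exact Nat.eq_of_mul_eq_mul_left (by positivity) h1
    exact conj_of_decomp hB 2 A B T U D E hATD hBUE hDc hEc hDE hTD hUE hTc hUc

end Cfsg.Agent.Lib.S3912
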